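import Groth.Agent.Lib.FibreFlat.Stalk
import Mathlib.AlgebraicGeometry.Morphisms.Proper
import Mathlib.AlgebraicGeometry.Noetherian
import Mathlib.AlgebraicGeometry.Morphisms.Flat
import Mathlib.AlgebraicGeometry.Properties
import Mathlib.RingTheory.DiscreteValuationRing.Basic
import Mathlib.RingTheory.Filtration
import Mathlib.RingTheory.Flat.TorsionFree
import Groth.Agent.Lib.CycDiv.Stalk

/-!
# Reducedness from a reduced special fibre over a discrete valuation ring
-/

universe u

open AlgebraicGeometry CategoryTheory Limits IsLocalRing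

namespace GrothLib.RedSpec6

theorem isReduced_of_quotient {O : Type u} [CommRing O] [IsLocalRing O] [IsNoetherianRing O] (t : O)
    (htm : t ∈ maximalIdeal O) (ht : IsSMulRegular O t) (hq : _root_.IsReduced (O ⧸ Ideal.span {t})) :
    _root_.IsReduced O := by
  refine ⟨fun a ha => ?_⟩
  have key : ∀ n : ℕ, ∀ a : O, IsNilpotent a → a ∈ Ideal.span {t} ^ n := by
    intro n
    induction n with
    | zero => intro a _; rw [pow_zero, Ideal.one_eq_top]; trivial
    | succ n ih =>
      intro a ha
      have h0 : Ideal.Quotient.mk (Ideal.span {t}) a = 0 := (ha.map _).eq_zero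
      obtain ⟨b, rfl⟩ := Ideal.mem_span_singleton.mp (Ideal.Quotient.eq_zero_iff_mem.mp h0)
      have hb : IsNilpotent b := by
        obtain ⟨k, hk⟩ := ha
        refine ⟨k, (ht.pow k) ?_⟩
        show t ^ k • b ^ k = t ^ k • (0 : O)
        rw [smul_eq_mul, ← mul_pow, hk, smul_zero]
      rw [pow_succ']
      exact Ideal.mul_mem_mul (Ideal.mem_span_singleton_self t) (ih b hb)
  have hbot := Ideal.iInf_pow_eq_bot_of_isLocalRing (Ideal.span {t})
    (fun h => (maximalIdeal.isMaximal O).ne_top (top_le_iff.mp (h ▸ (Ideal.span_singleton_le_iff_mem (I := maximalIdeal O)).mpr htm)))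
  exact (Submodule.mem_bot O).mp (hbot ▸ Submodule.mem_iInf _ |>.mpr fun n => key n a ha)

theorem isReduced_quotient_ker {A B : Type u} [CommRing A] [CommRing B] (φ : A →+* B) [_root_.IsReduced B] :
    _root_.IsReduced (A ⧸ RingHom.ker φ) :=
  isReduced_of_injective (RingHom.kerLift φ) (RingHom.kerLift_injective φ)

variable {R : Type u} [CommRing R] [IsDomain R] {X : Scheme.{u}}

theorem exists_span_maximalIdeal_stalk [IsDiscreteValuationRing R] :
    ∃ t : (Spec (CommRingCat.of R)).presheaf.stalk (IsLocalRing.closedPoint R),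
      maximalIdeal ((Spec (CommRingCat.of R)).presheaf.stalk (IsLocalRing.closedPoint R)) = Ideal.span {t} ∧ t ≠ 0 := by
  obtain ⟨ϖ, hϖ⟩ := IsDiscreteValuationRing.exists_irreducible R
  let x : Spec (CommRingCat.of R) := IsLocalRing.closedPoint R
  let L := Localization.AtPrime (maximalIdeal R)
  let e : L ≃+* (Spec (CommRingCat.of R)).presheaf.stalk x :=
    (Spec.stalkIso (CommRingCat.of R) x).symm.commRingCatIsoToRingEquiv
  refine ⟨e (algebraMap R L ϖ), ?_, ?_⟩
  · have h1 : maximalIdeal L = Ideal.span {algebraMap R L ϖ} := by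
      rw [← Localization.AtPrime.map_eq_maximalIdeal]
      exact ((congrArg (Ideal.map (algebraMap R L)) hϖ.maximalIdeal_eq).trans (Ideal.map_span _ _)).trans
        (congrArg Ideal.span Set.image_singleton)
    rw [← Set.image_singleton, ← Ideal.map_span, ← h1]
    exact (eq_maximalIdeal (Ideal.map_isMaximal_of_equiv e)).symm
  · rw [Ne, map_eq_zero_iff _ e.injective]
    exact fun h => hϖ.ne_zero (IsLocalization.injective L (maximalIdeal R).primeCompl_le_nonZeroDivisors (by rw [h, map_zero]))

theorem isReduced_stalk_of_special [IsDiscreteValuationRing R] (f : X ⟶ Spec (CommRingCat.of R))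
    [LocallyOfFiniteType f] [Flat f] (hred : IsReduced (f.fiber (IsLocalRing.closedPoint R))) (x : X)
    (hx : f x = IsLocalRing.closedPoint R) : _root_.IsReduced (X.presheaf.stalk x) := by
  haveI : IsNoetherianRing R := inferInstance
  haveI : IsLocallyNoetherian X := LocallyOfFiniteType.isLocallyNoetherian f
  obtain ⟨z, rfl⟩ := (f.range_fiberι (IsLocalRing.closedPoint R)).superset hx
  obtain ⟨hsurj, hker⟩ := GrothLib.FibreFlat.fiberι_stalkMap f (IsLocalRing.closedPoint R) z
  obtain ⟨t, ht, ht0⟩ : ∃ t : (Spec (CommRingCat.of R)).presheaf.stalk (f (f.fiberι _ z)),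
      maximalIdeal _ = Ideal.span {t} ∧ t ≠ 0 := by
    rw [hx]
    exact exists_span_maximalIdeal_stalk
  let φ := (f.stalkMap (f.fiberι _ z)).hom
  haveI : _root_.IsReduced ((f.fiber (IsLocalRing.closedPoint R)).presheaf.stalk z) := inferInstance
  have hker' : RingHom.ker ((f.fiberι (IsLocalRing.closedPoint R)).stalkMap z).hom = Ideal.span {φ t} := by
    rw [hker, ht, Ideal.map_span, Set.image_singleton]
  haveI : _root_.IsReduced (X.presheaf.stalk (f.fiberι _ z) ⧸ Ideal.span {φ t}) := by
    rw [← hker']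
    exact isReduced_quotient_ker _
  refine isReduced_of_quotient (φ t) ?_ ?_ inferInstance
  · have : t ∈ maximalIdeal _ := ht ▸ Ideal.mem_span_singleton_self t
    exact map_nonunit φ t this
  · haveI : IsDomain ((Spec (CommRingCat.of R)).presheaf.stalk (f (f.fiberι _ z))) :=
      (Spec.stalkIso (CommRingCat.of R) (f (f.fiberι _ z))).commRingCatIsoToRingEquiv.injective.isDomain
        (Spec.stalkIso (CommRingCat.of R) (f (f.fiberι _ z))).commRingCatIsoToRingEquiv.toRingHom
    have hflat : φ.Flat := Flat.stalkMap f _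
    letI := φ.toAlgebra
    haveI : Module.Flat _ (X.presheaf.stalk (f.fiberι _ z)) := hflat
    have h := Module.Flat.isSMulRegular_of_isRegular (M := X.presheaf.stalk (f.fiberι _ z)) (isRegular_of_ne_zero ht0)
    intro a b hab
    exact h (show algebraMap _ _ t * a = algebraMap _ _ t * b from hab)

theorem isReduced_and_generic [IsDiscreteValuationRing R] (f : X ⟶ Spec (CommRingCat.of R)) [IsProper f] [Flat f]
    (hred : IsReduced (f.fiber (IsLocalRing.closedPoint R))) :
    IsReduced X ∧ IsReduced (f.fiber (⟨⊥, Ideal.isPrime_bot⟩ : PrimeSpectrum R)) := by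
  have hX : ∀ x : X, _root_.IsReduced (X.presheaf.stalk x) := fun x => by
    obtain ⟨_, ⟨y, hy, rfl⟩, hsp⟩ : ∃ z ∈ f '' closure {x}, f x ⤳ z ∧ z = IsLocalRing.closedPoint R := by
      refine ⟨IsLocalRing.closedPoint R, ?_, IsLocalRing.specializes_closedPoint _, rfl⟩
      have hcl : IsClosed (f '' closure {x}) := f.isClosedMap _ isClosed_closure
      exact (IsLocalRing.specializes_closedPoint (f x)).mem_closed hcl ⟨x, subset_closure rfl, rfl⟩
    haveI := isReduced_stalk_of_special f hred y hsp.2
    have hxy : x ⤳ y := specializes_iff_mem_closure.mpr hy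
    letI := (X.presheaf.stalkSpecializes hxy).hom.toAlgebra
    haveI := GrothLib.CycDiv.isLocalization_stalkSpecializes hxy
    exact isReduced_localizationPreserves (GrothLib.CycDiv.primeOf hxy).primeCompl _ inferInstance
  haveI : IsReduced X := isReduced_of_isReduced_stalk X
  refine ⟨inferInstance, ?_⟩
  haveI : ∀ z, _root_.IsReduced ((f.fiber (⟨⊥, Ideal.isPrime_bot⟩ : PrimeSpectrum R)).presheaf.stalk z) := fun z => by
    obtain ⟨hsurj, hker⟩ := GrothLib.FibreFlat.fiberι_stalkMap f (⟨⊥, Ideal.isPrime_bot⟩ : PrimeSpectrum R) z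
    have hbot : maximalIdeal ((Spec (CommRingCat.of R)).presheaf.stalk (f (f.fiberι _ z))) = ⊥ := by
      rw [GrothLib.FibreFlat.fiberι_comp_apply f _ z]
      let e : Localization.AtPrime (PrimeSpectrum.asIdeal (⟨⊥, Ideal.isPrime_bot⟩ : PrimeSpectrum R)) ≃+*
          (Spec (CommRingCat.of R)).presheaf.stalk (⟨⊥, Ideal.isPrime_bot⟩ : PrimeSpectrum R) :=
        (Spec.stalkIso (CommRingCat.of R) _).symm.commRingCatIsoToRingEquiv
      rw [← eq_maximalIdeal (Ideal.map_isMaximal_of_equiv e (p := maximalIdeal _)),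
        ← Localization.AtPrime.map_eq_maximalIdeal, Ideal.map_bot, Ideal.map_bot]
    rw [hbot, Ideal.map_bot] at hker
    let E := RingEquiv.ofBijective _ ⟨(RingHom.injective_iff_ker_eq_bot _).mpr hker, hsurj⟩
    exact isReduced_of_injective E.symm.toRingHom E.symm.injective
  exact isReduced_of_isReduced_stalk _

end GrothLib.RedSpec6
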